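import Mathlib.RingTheory.HopfAlgebra.Convolution
import Mathlib.RingTheory.TensorProduct.Free
import Mathlib.LinearAlgebra.Trace
import Mathlib.LinearAlgebra.Dual.Lemmas
import Mathlib.RingTheory.Polynomial.Basic
import Mathlib.FieldTheory.Minpoly.Field
import Mathlib.Order.ModularLattice
import Mathlib.Algebra.Polynomial.Div

/-!
Finite commutative Hopf algebras in characteristic zero are cosemisimple: the character of the
regular representation is an integral, and gives a nondegenerate trace on the dual algebra.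
-/

universe u v

open TensorProduct

namespace Groth.Agent.HopfSS

/-- If all higher powers of an endomorphism have trace zero then so does the endomorphism. -/
theorem trace_eq_zero_of_trace_pow {K : Type u} [Field K] [CharZero K] {V : Type v}
    [AddCommGroup V] [Module K V] [FiniteDimensional K V] (T : Module.End K V)
    (h : ∀ k, 2 ≤ k → LinearMap.trace K V (T ^ k) = 0) : LinearMap.trace K V T = 0 := by
  set p := minpoly K T with hp
  have hp0 : p ≠ 0 := minpoly.ne_zero (Algebra.IsIntegral.isIntegral T)
  obtain ⟨q, hq, hnd⟩ := Polynomial.exists_eq_pow_rootMultiplicity_mul_and_not_dvd p hp0 0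
  rw [map_zero, sub_zero] at hq hnd
  set m := p.rootMultiplicity 0
  obtain ⟨a, b, hab⟩ := (Polynomial.irreducible_X.coprime_iff_not_dvd.2 hnd).pow_left (m := m + 2)
  set f := Polynomial.aeval T (a * Polynomial.X ^ (m + 2)) with hf
  have htr : ∀ g : Polynomial K,
      LinearMap.trace K V (Polynomial.aeval T (g * Polynomial.X ^ (m + 2))) = 0 := by
    intro g
    induction g using Polynomial.induction_on' with
    | add g g' hg hg' => rw [add_mul, map_add, map_add, hg, hg', add_zero]
    | monomial n c =>
      rw [← Polynomial.C_mul_X_pow_eq_monomial, mul_assoc, ← pow_add, map_mul, map_pow,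
        Polynomial.aeval_C, Polynomial.aeval_X, ← Algebra.smul_def, map_smul, h _ (by omega),
        smul_zero]
  have hkill : ∀ g : Polynomial K, Polynomial.aeval T (g * p) = 0 := fun g => by
    rw [map_mul, hp, minpoly.aeval, mul_zero]
  have hidem : f * f = f := by
    rw [← sub_eq_zero, hf, ← map_mul, ← map_sub]
    rw [show a * Polynomial.X ^ (m + 2) * (a * Polynomial.X ^ (m + 2)) - a * Polynomial.X ^ (m + 2) =
      (-(a * b * Polynomial.X ^ 2)) * p by
      rw [hq]; linear_combination (a * Polynomial.X ^ (m + 2)) * hab]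
    exact hkill _
  have hproj : LinearMap.IsProj (LinearMap.range f) f :=
    ⟨fun x => LinearMap.mem_range_self f x, by
      rintro _ ⟨y, rfl⟩
      exact LinearMap.congr_fun hidem y⟩
  have hf0 : f = 0 := by
    have h1 := hproj.trace
    rw [hf, htr a, eq_comm, Nat.cast_eq_zero, Submodule.finrank_eq_zero, LinearMap.range_eq_bot] at h1
    exact h1
  have hnil : T ^ (m + 2) = 0 := by
    calc T ^ (m + 2) = Polynomial.aeval T (Polynomial.X ^ (m + 2) * (a * Polynomial.X ^ (m + 2) + b * q)) := by
          rw [hab, mul_one, map_pow, Polynomial.aeval_X]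
      _ = Polynomial.aeval T (Polynomial.X ^ (m + 2)) * f +
          Polynomial.aeval T ((b * Polynomial.X ^ 2) * p) := by
          rw [hf, ← map_mul, ← map_add]; congr 1; rw [hq]; ring
      _ = 0 := by rw [hkill, hf0, mul_zero, add_zero]
  exact (LinearMap.isNilpotent_trace_of_isNilpotent ⟨_, hnil⟩).eq_zero

variable (K : Type u) [Field K] {A : Type v} [CommRing A] [HopfAlgebra K A]

open Algebra.TensorProduct (includeLeft includeRight)

/-- The map a ⊗ b ↦ (a ⊗ 1) Δ(b). -/
noncomputable def gal : A ⊗[K] A →ₐ[A] A ⊗[K] A :=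
  Algebra.TensorProduct.lift (Algebra.ofId A _) (Bialgebra.comulAlgHom K A)
    fun _ _ => Commute.all _ _

/-- The map a ⊗ b ↦ Δ(a) (1 ⊗ b). -/
noncomputable def galR : A ⊗[K] A →ₐ[K] A ⊗[K] A :=
  Algebra.TensorProduct.lift (Bialgebra.comulAlgHom K A) includeRight fun _ _ => Commute.all _ _

lemma galR_tmul (x y : A) : galR K (x ⊗ₜ[K] y) = Coalgebra.comul (R := K) x * (1 ⊗ₜ[K] y) := by
  simp [galR]

lemma gal_one_tmul (x : A) : gal K (1 ⊗ₜ[K] x) = Coalgebra.comul (R := K) x := by
  simp [gal, ← Algebra.TensorProduct.one_def]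

lemma galR_lTensor_antipode (a : A) :
    galR K (LinearMap.lTensor A (HopfAlgebra.antipode K) (Coalgebra.comul (R := K) a)) =
      a ⊗ₜ[K] 1 := by
  conv_lhs => rw [← (Coalgebra.Repr.arbitrary K a).eq]
  simp only [map_sum, LinearMap.lTensor_tmul, galR_tmul]
  have key := Coalgebra.sum_tmul_tmul_eq (R := K) (Coalgebra.Repr.arbitrary K a)
    (fun i => Coalgebra.Repr.arbitrary K ((Coalgebra.Repr.arbitrary K a).left i))
    (fun i => Coalgebra.Repr.arbitrary K ((Coalgebra.Repr.arbitrary K a).right i))
  let T : A ⊗[K] (A ⊗[K] A) →ₗ[K] A ⊗[K] A :=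
    LinearMap.lTensor A ((LinearMap.mul' K A).comp (LinearMap.lTensor A (HopfAlgebra.antipode K)))
  have := congrArg T key
  simp only [map_sum, T, LinearMap.lTensor_tmul, LinearMap.comp_apply, LinearMap.mul'_apply] at this
  rw [Finset.sum_congr rfl fun i _ => by
    rw [← (Coalgebra.Repr.arbitrary K ((Coalgebra.Repr.arbitrary K a).left i)).eq, Finset.sum_mul],
    ]
  simp only [Algebra.TensorProduct.tmul_mul_tmul, mul_one]
  rw [this]
  simp only [← TensorProduct.tmul_sum, HopfAlgebra.sum_mul_antipode_eq_algebraMap_counit,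
    Algebra.algebraMap_eq_smul_one, ← TensorProduct.smul_tmul, ← TensorProduct.sum_tmul]
  congr 1
  have h1 := congrArg (TensorProduct.rid K A)
    (Coalgebra.sum_tmul_counit_eq (R := K) (Coalgebra.Repr.arbitrary K a))
  simp only [map_sum, TensorProduct.rid_tmul, one_smul] at h1
  exact h1

variable [Module.Finite K A]

/-- The A-linear form X ↦ trace (μ_X ∘ Ψ). -/
noncomputable def G (X : A ⊗[K] A) : A :=
  LinearMap.trace A (A ⊗[K] A) (LinearMap.mulLeft A X * (gal K).toLinearMap)

lemma G_add (X Y : A ⊗[K] A) : G K (X + Y) = G K X + G K Y := by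
  rw [G, show LinearMap.mulLeft A (X + Y) = LinearMap.mulLeft A X + LinearMap.mulLeft A Y from
    LinearMap.ext fun z => by simp [add_mul], add_mul, map_add]
  rfl

lemma G_smul (a : A) (X : A ⊗[K] A) : G K (a • X) = a * G K X := by
  rw [G, G, show LinearMap.mulLeft A (a • X) = a • LinearMap.mulLeft A X by
    ext z; simp, smul_mul_assoc, map_smul, smul_eq_mul]

lemma G_zero : G K (0 : A ⊗[K] A) = 0 := by simpa using G_smul K (0 : A) (0 : A ⊗[K] A)

lemma G_galR (u : A ⊗[K] A) : G K (galR K u) = G K (1 ⊗ₜ[K] LinearMap.mul' K A u) := by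
  induction u using TensorProduct.induction_on with
  | zero => simp
  | add u w hu hw => simp [tmul_add, G_add, hu, hw]
  | tmul x y =>
    rw [galR_tmul, LinearMap.mul'_apply, G, G]
    have hcomm : (gal K).toLinearMap * LinearMap.mulLeft A (1 ⊗ₜ[K] x) =
        LinearMap.mulLeft A (Coalgebra.comul (R := K) x) * (gal K).toLinearMap := by
      refine LinearMap.ext fun z => ?_
      simp [Module.End.mul_apply, gal_one_tmul]
    rw [mul_comm (Coalgebra.comul (R := K) x), LinearMap.mulLeft_mul, ← Module.End.mul_eq_comp,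
      mul_assoc, ← hcomm, ← mul_assoc, LinearMap.trace_mul_comm, ← mul_assoc,
      show LinearMap.mulLeft A (1 ⊗ₜ[K] x : A ⊗[K] A) * LinearMap.mulLeft A (1 ⊗ₜ[K] y) =
        LinearMap.mulLeft A (1 ⊗ₜ[K] (x * y)) from LinearMap.ext fun z => by
        simp [Module.End.mul_apply, ← mul_assoc]]

/-- The character of the regular representation. -/
noncomputable def chi : A := G K (1 : A ⊗[K] A)

theorem mul_chi (a : A) : a * chi K = Coalgebra.counit (R := K) a • (chi K : A) := by
  have h := G_galR K (LinearMap.lTensor A (HopfAlgebra.antipode K) (Coalgebra.comul (R := K) a))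
  rw [galR_lTensor_antipode, HopfAlgebra.mul_antipode_lTensor_comul_apply] at h
  rw [show a ⊗ₜ[K] (1 : A) = a • (1 : A ⊗[K] A) by
      simp [Algebra.TensorProduct.one_def, TensorProduct.smul_tmul'], G_smul] at h
  rw [chi, h, show (1 : A) ⊗ₜ[K] algebraMap K A (Coalgebra.counit a) =
      algebraMap K A (Coalgebra.counit (R := K) a) • (1 : A ⊗[K] A) by
    simp [Algebra.TensorProduct.one_def, Algebra.algebraMap_eq_smul_one, TensorProduct.tmul_smul,
      TensorProduct.smul_tmul'], G_smul, ← Algebra.smul_def]

/-- The hit action of a linear form. -/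
noncomputable def hit (φ : Module.Dual K A) : Module.End K A :=
  (TensorProduct.lid K A).toLinearMap ∘ₗ LinearMap.rTensor A φ ∘ₗ Coalgebra.comul

/-- The convolution product of linear forms. -/
noncomputable def cm (φ ψ : Module.Dual K A) : Module.Dual K A :=
  (WithConv.toConv φ * WithConv.toConv ψ).ofConv

omit [Module.Finite K A] in
lemma cm_assoc (φ ψ ω : Module.Dual K A) : cm K (cm K φ ψ) ω = cm K φ (cm K ψ ω) := by
  simp [cm, mul_assoc]

omit [Module.Finite K A] in
lemma dual_hit (φ ω : Module.Dual K A) (a : A) : ω (hit K φ a) = cm K φ ω a := by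
  show ω (TensorProduct.lid K A (LinearMap.rTensor A φ (Coalgebra.comul a))) =
    LinearMap.mul' K K (TensorProduct.map φ ω (Coalgebra.comul a))
  induction Coalgebra.comul (R := K) a using TensorProduct.induction_on with
  | zero => simp
  | tmul x y => simp
  | add x y hx hy => simp [hx, hy]

omit [Module.Finite K A] in
lemma hit_cm (φ ψ : Module.Dual K A) : hit K (cm K φ ψ) = hit K ψ * hit K φ := by
  refine LinearMap.ext fun a => ?_
  rw [Module.End.mul_apply, ← sub_eq_zero, ← Module.forall_dual_apply_eq_zero_iff K]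
  intro ω
  rw [map_sub, dual_hit, dual_hit, dual_hit, cm_assoc, sub_self]

omit [Module.Finite K A] in
lemma hit_pow (φ : Module.Dual K A) : ∀ k, hit K ((WithConv.toConv φ) ^ (k + 1)).ofConv = hit K φ ^ (k + 1)
  | 0 => by simp
  | k + 1 => by
    rw [pow_succ (WithConv.toConv φ) (k + 1), pow_succ' (hit K φ) (k + 1), ← hit_pow φ k, ← hit_cm]
    rfl

lemma dual_chi (φ : Module.Dual K A) : φ (chi K) = LinearMap.trace K A (hit K φ) := by
  classical
  let b := Module.finBasis K A
  have h : ∀ (g : Module.Dual K A) (X : A ⊗[K] A),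
      φ (TensorProduct.rid K A (LinearMap.lTensor A g X)) =
        g (TensorProduct.lid K A (LinearMap.rTensor A φ X)) := by
    intro g X
    induction X using TensorProduct.induction_on with
    | zero => simp
    | tmul x y => simp [mul_comm]
    | add x y hx hy => simp [hx, hy]
  have h' : ∀ (i) (X : A ⊗[K] A), (Algebra.TensorProduct.basis A b).repr X i =
      TensorProduct.rid K A (LinearMap.lTensor A (b.coord i) X) := by
    intro i X
    induction X using TensorProduct.induction_on with
    | zero => simp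
    | tmul x y => simp [Algebra.TensorProduct.basis_repr_tmul, Algebra.smul_def, mul_comm]
    | add x y hx hy => simp [hx, hy]
  rw [chi, G, show LinearMap.mulLeft A (1 : A ⊗[K] A) = 1 from LinearMap.mulLeft_one _ _, one_mul,
    LinearMap.trace_eq_matrix_trace A (Algebra.TensorProduct.basis A b),
    LinearMap.trace_eq_matrix_trace K b, Matrix.trace, Matrix.trace, map_sum]
  refine Finset.sum_congr rfl fun i _ => ?_
  rw [Matrix.diag_apply, Matrix.diag_apply, LinearMap.toMatrix_apply, LinearMap.toMatrix_apply,
    Algebra.TensorProduct.basis_apply, AlgHom.toLinearMap_apply, gal_one_tmul, h', h]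
  rfl

lemma counit_chi : Coalgebra.counit (R := K) (chi K : A) = (Module.finrank K A : K) := by
  rw [dual_chi, show hit K (Coalgebra.counit (R := K) (A := A)) = 1 from LinearMap.ext fun a => by
    simp [hit], LinearMap.trace_one]

lemma chi_trace_comm (φ ψ : Module.Dual K A) : cm K φ ψ (chi K) = cm K ψ φ (chi K) := by
  rw [dual_chi, dual_chi, hit_cm, hit_cm, LinearMap.trace_mul_comm]

/-- The map y ↦ (id ⊗ y) Δ(χ). -/
noncomputable def theta : Module.Dual K A →ₗ[K] A where
  toFun y := TensorProduct.rid K A (LinearMap.lTensor A y (Coalgebra.comul (chi K)))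
  map_add' y z := by simp [LinearMap.lTensor_add]
  map_smul' c y := by simp [LinearMap.lTensor_smul]

lemma dual_theta (φ y : Module.Dual K A) : φ (theta K y) = cm K φ y (chi K) := by
  show φ (TensorProduct.rid K A (LinearMap.lTensor A y (Coalgebra.comul (chi K)))) =
    LinearMap.mul' K K (TensorProduct.map φ y (Coalgebra.comul (chi K)))
  induction Coalgebra.comul (R := K) (chi K : A) using TensorProduct.induction_on with
  | zero => simp
  | tmul u w => simp [mul_comm]
  | add u w hu hw => simp [hu, hw]

lemma tmul_mul_comul_chi (a : A) :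
    (a ⊗ₜ[K] 1) * Coalgebra.comul (R := K) (chi K) =
      (1 ⊗ₜ[K] HopfAlgebra.antipode K a) * Coalgebra.comul (R := K) (chi K) := by
  have key : ∀ u : A ⊗[K] A, galR K u * Coalgebra.comul (R := K) (chi K) =
      (1 ⊗ₜ[K] TensorProduct.lid K A (LinearMap.rTensor A (Coalgebra.counit) u)) *
        Coalgebra.comul (R := K) (chi K) := by
    intro u
    induction u using TensorProduct.induction_on with
    | zero => simp
    | add u w hu hw => simp [add_mul, tmul_add, hu, hw]
    | tmul x y =>
      rw [galR_tmul, mul_right_comm, ← Bialgebra.comul_mul, mul_chi]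
      simp [mul_comm (Coalgebra.comul (R := K) (chi K)), TensorProduct.tmul_smul]
  rw [← galR_lTensor_antipode, key]
  congr 2
  have hS : ∀ X : A ⊗[K] A,
      TensorProduct.lid K A (LinearMap.rTensor A (Coalgebra.counit (R := K))
        (LinearMap.lTensor A (HopfAlgebra.antipode K) X)) =
      HopfAlgebra.antipode K
        (TensorProduct.lid K A (LinearMap.rTensor A (Coalgebra.counit (R := K)) X)) := by
    intro X
    induction X using TensorProduct.induction_on with
    | zero => simp
    | tmul x y => simp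
    | add x y hx hy => simp [hx, hy]
  rw [hS, Coalgebra.rTensor_counit_comul]
  simp

variable [CharZero K]

theorem theta_bijective : Function.Bijective (theta K (A := A)) := by
  classical
  have hmul : ∀ (a : A) y, a * theta K y =
      theta K (y ∘ₗ LinearMap.mulLeft K (HopfAlgebra.antipode K a)) := by
    intro a y
    have h1 : ∀ X : A ⊗[K] A, a * TensorProduct.rid K A (LinearMap.lTensor A y X) =
        TensorProduct.rid K A (LinearMap.lTensor A y ((a ⊗ₜ[K] 1) * X)) := by
      intro X
      induction X using TensorProduct.induction_on with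
      | zero => simp
      | tmul u w => simp [mul_smul_comm]
      | add u w hu hw => simp [mul_add, hu, hw]
    have h2 : ∀ (s : A) (X : A ⊗[K] A),
        TensorProduct.rid K A (LinearMap.lTensor A y ((1 ⊗ₜ[K] s) * X)) =
          TensorProduct.rid K A (LinearMap.lTensor A (y ∘ₗ LinearMap.mulLeft K s) X) := by
      intro s X
      induction X using TensorProduct.induction_on with
      | zero => simp
      | tmul u w => simp
      | add u w hu hw => simp [mul_add, hu, hw]
    exact (h1 _).trans (by rw [tmul_mul_comul_chi]; exact h2 _ _)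
  let b := Module.finBasis K A
  have hX : ∀ X : A ⊗[K] A,
      X = ∑ i, TensorProduct.rid K A (LinearMap.lTensor A (b.coord i) X) ⊗ₜ[K] b i := by
    intro X
    induction X using TensorProduct.induction_on with
    | zero => simp
    | tmul x y =>
      simp only [LinearMap.lTensor_tmul, TensorProduct.rid_tmul, Module.Basis.coord_apply,
        TensorProduct.smul_tmul, ← TensorProduct.tmul_sum, b.sum_repr]
    | add x y hx hy => simp [TensorProduct.add_tmul, Finset.sum_add_distrib, ← hx, ← hy]
  have hrange : ∀ a x : A, x ∈ LinearMap.range (theta K) → a * x ∈ LinearMap.range (theta K) := by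
    rintro a _ ⟨y, rfl⟩; exact ⟨_, (hmul a y).symm⟩
  have hn : (algebraMap K A (Coalgebra.counit (R := K) (chi K : A))) ∈ LinearMap.range (theta K) := by
    rw [← HopfAlgebra.mul_antipode_lTensor_comul_apply, hX (Coalgebra.comul (chi K))]
    simp only [map_sum, LinearMap.lTensor_tmul, LinearMap.mul'_apply]
    refine Submodule.sum_mem _ fun i _ => ?_
    rw [mul_comm]
    exact hrange _ _ ⟨b.coord i, rfl⟩
  have hsurj : Function.Surjective (theta K (A := A)) := by
    intro a
    have hne : (Coalgebra.counit (R := K) (chi K : A)) ≠ 0 := by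
      rw [counit_chi, Nat.cast_ne_zero]
      have : Nontrivial A := by
        refine ⟨1, 0, fun h => ?_⟩
        simpa using congrArg (Coalgebra.counit (R := K)) h
      exact Module.finrank_pos.ne'
    have h1 := hrange (algebraMap K A (Coalgebra.counit (R := K) (chi K : A))⁻¹ * a) _ hn
    rw [mul_right_comm, ← map_mul, inv_mul_cancel₀ hne, map_one, one_mul] at h1
    exact h1
  exact ⟨(LinearMap.injective_iff_surjective_of_finrank_eq_finrank Subspace.dual_finrank_eq).2 hsurj,
    hsurj⟩

/-- The condition on a subspace of being a subcoalgebra, on linear forms. -/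
def IsSub (D : Submodule K A) : Prop :=
  ∀ φ ψ : Module.Dual K A, φ ∈ D.dualAnnihilator ∨ ψ ∈ D.dualAnnihilator →
    cm K φ ψ ∈ D.dualAnnihilator

omit [CharZero K] in
theorem isSub_iff (D : Submodule K A) :
    IsSub K D ↔ ∀ b ∈ D, CoalgebraStruct.comul (R := K) b ∈
      LinearMap.range (TensorProduct.map D.subtype D.subtype) := by
  constructor
  · intro hD d hd
    obtain ⟨p', hp'⟩ := D.subtype.exists_leftInverse_of_injective D.ker_subtype
    have hp : ∀ x ∈ D, ((p' x : D) : A) = x := fun x hx =>
      congrArg Subtype.val (LinearMap.congr_fun hp' ⟨x, hx⟩)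
    let p : A →ₗ[K] A := D.subtype ∘ₗ p'
    refine ⟨TensorProduct.map p' p' (Coalgebra.comul d), ?_⟩
    rw [← LinearMap.comp_apply, ← TensorProduct.map_comp]
    let b := Module.finBasis K A
    refine (b.tensorProduct b).ext_elem fun ij => ?_
    obtain ⟨i, j⟩ := ij
    have hc : ∀ Y : A ⊗[K] A, (b.tensorProduct b).repr Y (i, j) =
        LinearMap.mul' K K (TensorProduct.map (b.coord i) (b.coord j) Y) := by
      intro Y
      induction Y using TensorProduct.induction_on with
      | zero => simp
      | tmul x y => simp [mul_comm, Module.Basis.tensorProduct_repr_tmul_apply]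
      | add x y hx hy => simp [hx, hy]
    rw [hc, hc, ← LinearMap.comp_apply (TensorProduct.map _ _), ← TensorProduct.map_comp]
    show cm K (b.coord i ∘ₗ p) (b.coord j ∘ₗ p) d = cm K (b.coord i) (b.coord j) d
    have hmem : ∀ φ : Module.Dual K A, φ - φ ∘ₗ p ∈ D.dualAnnihilator := fun φ =>
      (Submodule.mem_dualAnnihilator _).2 fun x hx => by simp [p, hp x hx]
    set φ := b.coord i
    set ψ := b.coord j
    have h1 := (Submodule.mem_dualAnnihilator _).1 (hD _ ψ (Or.inl (hmem φ))) d hd
    have h2 := (Submodule.mem_dualAnnihilator _).1 (hD (φ ∘ₗ p) _ (Or.inr (hmem ψ))) d hd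
    simp only [cm, WithConv.toConv_sub, sub_mul, mul_sub, WithConv.ofConv_sub, LinearMap.sub_apply,
      sub_eq_zero] at h1 h2
    exact h2.symm.trans h1.symm
  · intro hD φ ψ h
    refine (Submodule.mem_dualAnnihilator _).2 fun d hd => ?_
    obtain ⟨X, hX⟩ := hD d hd
    show LinearMap.mul' K K (TensorProduct.map φ ψ (Coalgebra.comul d)) = 0
    rw [← hX, ← LinearMap.comp_apply (TensorProduct.map φ ψ), ← TensorProduct.map_comp]
    rcases h with h | h
    · have : φ ∘ₗ D.subtype = 0 := LinearMap.ext fun x => (Submodule.mem_dualAnnihilator φ).1 h x x.2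
      simp [this]
    · have : ψ ∘ₗ D.subtype = 0 := LinearMap.ext fun x => (Submodule.mem_dualAnnihilator ψ).1 h x x.2
      simp [this]

theorem exists_isCompl_isSub {D : Submodule K A} (hD : IsSub K D) :
    ∃ C : Submodule K A, IsSub K C ∧ IsCompl D C := by
  set J : Submodule K (Module.Dual K A) := D.comap (theta K) with hJ
  have hmemD : ∀ x : A, x ∈ D ↔ ∀ φ ∈ D.dualAnnihilator, φ x = 0 := fun x => by
    conv_lhs => rw [← Subspace.dualAnnihilator_dualCoannihilator_eq (W := D)]
    rw [Submodule.mem_dualCoannihilator]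
  have hJl : ∀ z y, y ∈ J → cm K z y ∈ J := by
    intro z y hy
    rw [hJ, Submodule.mem_comap] at hy ⊢
    rw [hmemD]
    intro φ hφ
    rw [dual_theta, ← cm_assoc, ← dual_theta]
    exact (Submodule.mem_dualAnnihilator _).1 (hD φ z (Or.inl hφ)) _ hy
  have hJr : ∀ z y, y ∈ J → cm K y z ∈ J := by
    intro z y hy
    rw [hJ, Submodule.mem_comap] at hy ⊢
    rw [hmemD]
    intro φ hφ
    rw [dual_theta, ← cm_assoc, chi_trace_comm, ← cm_assoc, ← dual_theta]
    exact (Submodule.mem_dualAnnihilator _).1 (hD z φ (Or.inr hφ)) _ hy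
  refine ⟨J.dualCoannihilator, fun φ ψ h => ?_, ?_⟩
  · rw [Subspace.dualCoannihilator_dualAnnihilator_eq] at h ⊢
    exact h.elim (hJr ψ φ) (hJl φ ψ)
  have hdisj : Disjoint D J.dualCoannihilator := by
    rw [Submodule.disjoint_def]
    intro x hxD hxC
    obtain ⟨y, rfl⟩ := (theta_bijective K).2 x
    have hy : y ∈ J := hxD
    rw [Submodule.mem_dualCoannihilator] at hxC
    rw [← Module.forall_dual_apply_eq_zero_iff K]
    intro z
    rw [dual_theta, dual_chi]
    refine trace_eq_zero_of_trace_pow _ fun k hk => ?_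
    obtain ⟨k, rfl⟩ : ∃ j, k = j + 2 := ⟨k - 2, by omega⟩
    rw [← hit_pow, ← dual_chi]
    set u := cm K z y
    set w := ((WithConv.toConv u) ^ (k + 1)).ofConv
    have hw : w ∈ J := by
      rw [show w = cm K ((WithConv.toConv u) ^ k).ofConv u from by simp [w, cm, pow_succ]]
      exact hJl _ _ (hJl z y hy)
    rw [show ((WithConv.toConv u) ^ (k + 2)).ofConv = cm K (cm K w z) y by
      rw [cm_assoc]; simp [w, cm, pow_succ _ (k + 1), u], ← dual_theta]
    exact hxC _ (hJr z w hw)
  refine (Submodule.isCompl_iff_disjoint _ _ ?_).2 hdisj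
  have h1 : Module.finrank K J = Module.finrank K D := by
    have e := ((LinearEquiv.ofBijective (theta K) (theta_bijective K)).ofSubmodule' D).finrank_eq
    exact e
  have h2 := Subspace.finrank_add_finrank_dualCoannihilator_eq J
  omega

omit [CharZero K] in
lemma IsSub.inf {D C : Submodule K A} (hD : IsSub K D) (hC : IsSub K C) : IsSub K (D ⊓ C) := by
  intro φ ψ h
  rw [Subspace.dualAnnihilator_inf_eq] at h ⊢
  rcases h with h | h <;> obtain ⟨a, ha, b, hb, rfl⟩ := Submodule.mem_sup.1 h
  · rw [cm, WithConv.toConv_add, add_mul, WithConv.ofConv_add]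
    exact Submodule.add_mem_sup (hD a ψ (Or.inl ha)) (hC b ψ (Or.inl hb))
  · rw [cm, WithConv.toConv_add, mul_add, WithConv.ofConv_add]
    exact Submodule.add_mem_sup (hD φ a (Or.inr ha)) (hC φ b (Or.inr hb))

theorem exists_decomposition : ∀ (n : ℕ) (X : Submodule K A), Module.finrank K X ≤ n → IsSub K X →
    ∃ s : Set (Submodule K A), sSupIndep s ∧ sSup s = X ∧
      ∀ D ∈ s, D ≠ ⊥ ∧ IsSub K D ∧ ∀ B ≤ D, IsSub K B → B = ⊥ ∨ B = D := by
  intro n
  induction n with
  | zero =>
    intro X hX _
    refine ⟨∅, sSupIndep_empty, ?_, by simp⟩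
    rw [sSup_empty, eq_comm, ← Submodule.finrank_eq_zero]
    omega
  | succ n ih =>
    intro X hX hXs
    by_cases hX0 : X = ⊥
    · exact ⟨∅, sSupIndep_empty, by rw [sSup_empty, hX0], by simp⟩
    obtain ⟨D, ⟨hDX, hD0, hDs⟩, hmin⟩ :=
      (InvImage.wf (fun D : Submodule K A => Module.finrank K D) wellFounded_lt).has_min
      {D : Submodule K A | D ≤ X ∧ D ≠ ⊥ ∧ IsSub K D} ⟨X, le_rfl, hX0, hXs⟩
    obtain ⟨C, hCs, hDC⟩ := exists_isCompl_isSub K hDs
    have hsup : D ⊔ X ⊓ C = X := by
      rw [inf_comm, ← sup_inf_assoc_of_le C hDX, hDC.sup_eq_top, top_inf_eq]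
    have hdisj : Disjoint D (X ⊓ C) := hDC.disjoint.mono_right inf_le_right
    have hlt : X ⊓ C < X := by
      refine lt_of_le_of_ne inf_le_left fun h => hD0 ?_
      exact disjoint_self.1 (hdisj.mono_right (hDX.trans h.ge))
    obtain ⟨s, hs, hsX, hsimp⟩ := ih _
      (Nat.lt_succ_iff.1 ((Submodule.finrank_lt_finrank_of_lt hlt).trans_le hX)) (hXs.inf K hCs)
    refine ⟨insert D s, ?_, by rw [sSup_insert, hsX, hsup], ?_⟩
    · intro a ha
      rcases Set.mem_insert_iff.1 ha with rfl | ha
      · exact hdisj.mono_right (le_trans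
          (sSup_le_sSup fun x hx => ((Set.mem_insert_iff.1 hx.1).resolve_left hx.2)) hsX.le)
      · have h2 : Disjoint (a ⊔ sSup (s \ {a})) D := by
          refine hdisj.symm.mono_left (hsX ▸ sup_le (le_sSup ha) (sSup_le_sSup Set.diff_subset))
        have h3 := (hs ha).disjoint_sup_right_of_disjoint_sup_left h2
        refine h3.mono_right (le_trans (sSup_le_sSup (t := insert D (s \ {a})) fun x hx => ?_) ?_)
        · rcases Set.mem_insert_iff.1 hx.1 with rfl | h
          · exact Set.mem_insert _ _
          · exact Set.mem_insert_of_mem _ ⟨h, hx.2⟩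
        · rw [sSup_insert, sup_comm]
    · intro a ha
      rcases Set.mem_insert_iff.1 ha with rfl | ha
      · refine ⟨hD0, hDs, fun B hB hBs => ?_⟩
        by_cases hB0 : B = ⊥
        · exact Or.inl hB0
        · exact Or.inr (hB.lt_or_eq.resolve_left fun hlt' =>
            hmin B ⟨hB.trans hDX, hB0, hBs⟩ (Submodule.finrank_lt_finrank_of_lt hlt'))
      · exact hsimp a ha

end Groth.Agent.HopfSS
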